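import Mathlib

set_option autoImplicit false

/-! # Double coset enumeration: the covering lemma

`G = ⟨N, t⟩`, `U ≤ N` normalises `⟨t⟩`; if the double cosets `N r_i N` are permuted by `t` on the
right (checked on representatives of the `(S_i, U)`-double cosets of `N`), they cover `G`. -/

namespace Cfsg.Agent.Lib.Helper21.HNDce

/-- conjugation by `r` sends the closure of `T` into `N` if it does so for the generators -/
theorem conj_mem_of_mem_closure {G : Type*} [Group G] (N : Subgroup G) (r : G) (T : Set G)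
    (h : ∀ s ∈ T, r * s * r⁻¹ ∈ N) : ∀ s ∈ Subgroup.closure T, r * s * r⁻¹ ∈ N := by
  intro s hs
  induction hs using Subgroup.closure_induction with
  | mem x hx => exact h x hx
  | one => simp
  | mul x y _ _ hx hy =>
    have : r * (x * y) * r⁻¹ = (r * x * r⁻¹) * (r * y * r⁻¹) := by group
    rw [this]; exact N.mul_mem hx hy
  | inv x _ hx =>
    have : r * x⁻¹ * r⁻¹ = (r * x * r⁻¹)⁻¹ := by group
    rw [this]; exact N.inv_mem hx

/-- The covering lemma of double coset enumeration. -/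
theorem dce_cover {G : Type*} [Group G] (N U : Subgroup G) (t : G) {ι κ : Type*}
    (r : ι → G) (i0 : ι) (hr0 : r i0 = 1) (S : ι → Subgroup G) (nn : ι → κ → G)
    (ht5 : t ^ 5 = 1)
    (hL : ∀ u ∈ U, ∃ j : ℕ, u * t = t ^ j * u)
    (hUN : U ≤ N)
    (hA : ∀ i, ∀ s ∈ S i, r i * s * (r i)⁻¹ ∈ N)
    (hC : ∀ i, ∀ n ∈ N, ∃ s ∈ S i, ∃ k, ∃ u ∈ U, n = s * nn i k * u)
    (hB : ∀ i k (j : ℕ), j < 5 → ∃ i', ∃ ν ∈ N, ∃ ν' ∈ N, r i * nn i k * t ^ j = ν * r i' * ν')
    (hgen : Subgroup.closure ((N : Set G) ∪ {t}) = ⊤) :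
    ∀ g : G, ∃ i, ∃ ν ∈ N, ∃ ν' ∈ N, g = ν * r i * ν' := by
  -- powers of `t` modulo five
  have hpow : ∀ j : ℕ, t ^ j = t ^ (j % 5) := by
    intro j
    conv_lhs => rw [← Nat.div_add_mod j 5, pow_add, pow_mul, ht5, one_pow, one_mul]
  have hB' : ∀ i k (j : ℕ), ∃ i', ∃ ν ∈ N, ∃ ν' ∈ N, r i * nn i k * t ^ j = ν * r i' * ν' := by
    intro i k j
    rw [hpow j]
    exact hB i k (j % 5) (Nat.mod_lt _ (by norm_num))
  -- `u * t ^ m = t ^ (j * m) * u`
  have hLm : ∀ u ∈ U, ∀ m : ℕ, ∃ j : ℕ, u * t ^ m = t ^ j * u := by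
    intro u hu m
    obtain ⟨j, hj⟩ := hL u hu
    refine ⟨j * m, ?_⟩
    induction m with
    | zero => simp
    | succ m ih =>
      rw [pow_succ, ← mul_assoc, ih, mul_assoc, hj, ← mul_assoc, ← pow_add, Nat.mul_succ]
  -- the set of covered elements is closed under right multiplication by powers of `t`
  have hstep : ∀ g : G, (∃ i, ∃ ν ∈ N, ∃ ν' ∈ N, g = ν * r i * ν') → ∀ m : ℕ,
      ∃ i, ∃ ν ∈ N, ∃ ν' ∈ N, g * t ^ m = ν * r i * ν' := by
    rintro g ⟨i, ν, hν, n, hn, rfl⟩ m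
    obtain ⟨s, hs, k, u, hu, rfl⟩ := hC i n hn
    obtain ⟨j, hj⟩ := hLm u hu m
    obtain ⟨i', ν1, hν1, ν2, hν2, h2⟩ := hB' i k j
    refine ⟨i', ν * (r i * s * (r i)⁻¹) * ν1, N.mul_mem (N.mul_mem hν (hA i s hs)) hν1,
      ν2 * u, N.mul_mem hν2 (hUN hu), ?_⟩
    calc ν * r i * (s * nn i k * u) * t ^ m
        = ν * r i * s * nn i k * (u * t ^ m) := by group
      _ = ν * r i * s * nn i k * (t ^ j * u) := by rw [hj]
      _ = ν * (r i * s * (r i)⁻¹) * (r i * nn i k * t ^ j) * u := by group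
      _ = ν * (r i * s * (r i)⁻¹) * (ν1 * r i' * ν2) * u := by rw [h2]
      _ = ν * (r i * s * (r i)⁻¹) * ν1 * r i' * (ν2 * u) := by group
  intro g
  have hg : g ∈ Subgroup.closure ((N : Set G) ∪ {t}) := by rw [hgen]; trivial
  refine Subgroup.closure_induction_right
    (p := fun x _ => ∃ i, ∃ ν ∈ N, ∃ ν' ∈ N, x = ν * r i * ν') ?_ ?_ ?_ hg
  · exact ⟨i0, 1, N.one_mem, 1, N.one_mem, by rw [hr0]; simp⟩
  · intro x _ y hy ih
    rcases hy with hy | hy
    · obtain ⟨i, ν, hν, ν', hν', rfl⟩ := ih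
      exact ⟨i, ν, hν, ν' * y, N.mul_mem hν' hy, by group⟩
    · rw [Set.mem_singleton_iff] at hy
      subst hy
      simpa using hstep x ih 1
  · intro x _ y hy ih
    rcases hy with hy | hy
    · obtain ⟨i, ν, hν, ν', hν', rfl⟩ := ih
      exact ⟨i, ν, hν, ν' * y⁻¹, N.mul_mem hν' (N.inv_mem hy), by group⟩
    · rw [Set.mem_singleton_iff] at hy
      subst hy
      have h4 : y⁻¹ = y ^ 4 := by
        have : y ^ 4 * y = 1 := by rw [← pow_succ]; exact ht5
        exact (eq_inv_of_mul_eq_one_left this).symm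
      rw [h4]
      exact hstep x ih 4

/-- If the double cosets `N r_i N` cover `G`, `N` fixes the point `x0` and no `r_i` other than
`r_{i0} = 1` does, then `N` is the full stabiliser of `x0`. -/
theorem stabilizer_eq_of_cover {G Ω ι : Type*} [Group G] [MulAction G Ω] (N : Subgroup G) (x0 : Ω)
    (hN : N ≤ MulAction.stabilizer G x0) (r : ι → G) (i0 : ι) (hr0 : r i0 = 1)
    (hmove : ∀ i, i ≠ i0 → r i • x0 ≠ x0)
    (hcov : ∀ g : G, ∃ i, ∃ ν ∈ N, ∃ ν' ∈ N, g = ν * r i * ν') :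
    MulAction.stabilizer G x0 = N := by
  apply le_antisymm _ hN
  intro g hg
  obtain ⟨i, ν, hν, ν', hν', rfl⟩ := hcov g
  rw [MulAction.mem_stabilizer_iff, mul_smul, mul_smul] at hg
  have h1 : ν' • x0 = x0 := MulAction.mem_stabilizer_iff.mp (hN hν')
  have h2 : ν⁻¹ • x0 = x0 := MulAction.mem_stabilizer_iff.mp (hN (N.inv_mem hν))
  rw [h1] at hg
  have h3 : r i • x0 = x0 := by
    have := congrArg (fun y => ν⁻¹ • y) hg
    simpa [h2] using this
  by_cases hi : i = i0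
  · subst hi
    rw [hr0, mul_one]
    exact N.mul_mem hν hν'
  · exact absurd h3 (hmove i hi)

/-- the index of `N`, for a transitive action -/
theorem index_eq_of_cover {G Ω ι : Type*} [Group G] [MulAction G Ω]
    [MulAction.IsPretransitive G Ω] (N : Subgroup G) (x0 : Ω)
    (hN : N ≤ MulAction.stabilizer G x0) (r : ι → G) (i0 : ι) (hr0 : r i0 = 1)
    (hmove : ∀ i, i ≠ i0 → r i • x0 ≠ x0)
    (hcov : ∀ g : G, ∃ i, ∃ ν ∈ N, ∃ ν' ∈ N, g = ν * r i * ν') :
    N.index = Nat.card Ω := by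
  rw [← stabilizer_eq_of_cover N x0 hN r i0 hr0 hmove hcov]
  exact MulAction.index_stabilizer_of_transitive G x0

/-- If the double cosets `N r_i N` cover `G = ⟨N, t⟩` and `t ∈ ⟨N, r_i⟩` for every `i ≠ i0`, then `N` is
a maximal subgroup (or the whole group). -/
theorem eq_top_of_lt_of_cover {G ι : Type*} [Group G] (N : Subgroup G) (t : G)
    (hgen : Subgroup.closure ((N : Set G) ∪ {t}) = ⊤) (r : ι → G) (i0 : ι) (hr0 : r i0 = 1)
    (hcov : ∀ g : G, ∃ i, ∃ ν ∈ N, ∃ ν' ∈ N, g = ν * r i * ν')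
    (ht : ∀ i, i ≠ i0 → t ∈ Subgroup.closure ((N : Set G) ∪ {r i}))
    (M : Subgroup G) (hNM : N < M) : M = ⊤ := by
  obtain ⟨g, hgM, hgN⟩ := SetLike.exists_of_lt hNM
  obtain ⟨i, ν, hν, ν', hν', rfl⟩ := hcov g
  have hi : i ≠ i0 := by
    rintro rfl
    apply hgN
    rw [hr0, mul_one]
    exact N.mul_mem hν hν'
  have hri : r i ∈ M := by
    have h1 : r i = ν⁻¹ * (ν * r i * ν') * ν'⁻¹ := by group
    rw [h1]
    exact M.mul_mem (M.mul_mem (M.inv_mem (hNM.le hν)) hgM) (M.inv_mem (hNM.le hν'))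
  have htM : t ∈ M := by
    have hle : Subgroup.closure ((N : Set G) ∪ {r i}) ≤ M := by
      rw [Subgroup.closure_le]
      rintro y (hy | hy)
      · exact hNM.le hy
      · rw [Set.mem_singleton_iff] at hy
        rw [hy]; exact hri
    exact hle (ht i hi)
  rw [eq_top_iff, ← hgen, Subgroup.closure_le]
  rintro y (hy | hy)
  · exact hNM.le hy
  · rw [Set.mem_singleton_iff] at hy
    rw [hy]; exact htM

theorem isCoatom_of_cover {G ι : Type*} [Group G] (N : Subgroup G) (t : G) (hne : N ≠ ⊤)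
    (hgen : Subgroup.closure ((N : Set G) ∪ {t}) = ⊤) (r : ι → G) (i0 : ι) (hr0 : r i0 = 1)
    (hcov : ∀ g : G, ∃ i, ∃ ν ∈ N, ∃ ν' ∈ N, g = ν * r i * ν')
    (ht : ∀ i, i ≠ i0 → t ∈ Subgroup.closure ((N : Set G) ∪ {r i})) : IsCoatom N :=
  ⟨hne, fun M hNM => eq_top_of_lt_of_cover N t hgen r i0 hr0 hcov ht M hNM⟩

end Cfsg.Agent.Lib.Helper21.HNDce
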